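import Groth.Agent.Lib.Helper18.WP.Weight
import Groth.Agent.Lib.Helper18.FF.Aut
import Groth.Agent.Lib.Helper18.Hasse.TaylorExp
import Mathlib.FieldTheory.Fixed

/-! # Finiteness of the automorphism group of a function field of genus at least two -/

set_option autoImplicit false
set_option linter.style.haveILetI false

namespace Groth.Agent.Lib.Helper18.WP

open FunFld WithZero LocRes Groth.Agent.Lib.Helper18.FF Groth.Agent.Lib.Helper18.Hasse

universe u v

variable {k : Type u} {K : Type v} [Field k] [Field K] [Algebra k K]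

theorem comapPlace_injective (σ : K ≃ₐ[k] K) : Function.Injective (comapPlace σ) := by
  intro P Q h
  have := congrArg (comapPlace σ.symm) h
  rwa [comapPlace_symm_comapPlace, comapPlace_symm_comapPlace] at this

theorem comapPlace_mul (σ τ : K ≃ₐ[k] K) (P : Place k K) :
    comapPlace (σ * τ) P = comapPlace τ (comapPlace σ P) := by
  apply Subtype.ext
  apply Valuation.ext
  intro x
  rw [comapPlace_apply, comapPlace_apply, comapPlace_apply]
  rfl

theorem mem_L_single_comapPlace (σ : K ≃ₐ[k] K) (P : Place k K) (m : ℤ) (x : K) :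
    x ∈ L (Finsupp.single (comapPlace σ P) m : Divisor k K) ↔
      σ x ∈ L (Finsupp.single P m : Divisor k K) := by
  classical
  constructor
  · intro h R
    have h1 := h (comapPlace σ R)
    rw [comapPlace_apply] at h1
    refine h1.trans (le_of_eq ?_)
    congr 1
    rw [Finsupp.single_apply, Finsupp.single_apply]
    by_cases hR : P = R
    · rw [if_pos hR, if_pos (by rw [hR])]
    · rw [if_neg hR, if_neg (fun h' => hR (comapPlace_injective σ h'))]
  · intro h Q
    have h1 := h (comapPlace σ.symm Q)
    rw [comapPlace_apply, AlgEquiv.symm_apply_apply] at h1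
    refine h1.trans (le_of_eq ?_)
    congr 1
    rw [Finsupp.single_apply, Finsupp.single_apply]
    by_cases hQ : comapPlace σ P = Q
    · rw [if_pos hQ, if_pos (by rw [← hQ, comapPlace_symm_comapPlace])]
    · rw [if_neg hQ, if_neg (fun h' => hQ (by rw [h', comapPlace_comapPlace_symm]))]

/-- Gap numbers are preserved by automorphisms. -/
theorem gap_comapPlace (σ : K ≃ₐ[k] K) (P : Place k K) (a b : ℤ)
    (h : L (Finsupp.single P a : Divisor k K) = L (Finsupp.single P b)) :
    L (Finsupp.single (comapPlace σ P) a : Divisor k K) = L (Finsupp.single (comapPlace σ P) b) := by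
  ext x
  rw [mem_L_single_comapPlace, mem_L_single_comapPlace, h]

theorem gap_comapPlace_iff (σ : K ≃ₐ[k] K) (P : Place k K) (a b : ℤ) :
    L (Finsupp.single (comapPlace σ P) a : Divisor k K) = L (Finsupp.single (comapPlace σ P) b) ↔
      L (Finsupp.single P a : Divisor k K) = L (Finsupp.single P b) := by
  refine ⟨fun h => ?_, gap_comapPlace σ P a b⟩
  have := gap_comapPlace σ.symm (comapPlace σ P) a b h
  rwa [comapPlace_symm_comapPlace] at this

section algClosed

variable [IsAlgClosed k]

/-- An automorphism fixing at least `g + 3` places fixes every function with a single pole of order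
at most `g + 1` at one of them. -/
theorem apply_eq_of_fixes_finset (hK : IsFunctionField k K) (σ : K ≃ₐ[k] K)
    (S : Finset (Place k K)) (hS : ∀ R ∈ S, Fixes σ R) (hcard : genus k K + 3 ≤ S.card)
    (P₀ : Place k K) (hP₀ : P₀ ∈ S) {x : K}
    (hxL : x ∈ L (Finsupp.single P₀ ((genus k K : ℤ) + 1) : Divisor k K)) : σ x = x := by
  classical
  have hfix0 : comapPlace σ P₀ = P₀ := comapPlace_eq_of_fixes (hS P₀ hP₀)
  have hσx : σ x ∈ L (Finsupp.single P₀ ((genus k K : ℤ) + 1) : Divisor k K) := by
    rw [← mem_L_single_comapPlace, hfix0]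
    exact hxL
  have hy : σ x - x ∈ L ((Finsupp.single P₀ ((genus k K : ℤ) + 1) -
      ∑ Q ∈ S.erase P₀, Finsupp.single Q (1 : ℤ) : Divisor k K)) := by
    intro R
    have hsum : (∑ Q ∈ S.erase P₀, Finsupp.single Q (1 : ℤ) : Divisor k K) R =
        if R ∈ S.erase P₀ then 1 else 0 := by
      rw [Finsupp.finset_sum_apply]
      simp only [Finsupp.single_apply]
      rw [Finset.sum_ite_eq' (S.erase P₀) R]
    rw [Finsupp.sub_apply, hsum]
    by_cases hR : R ∈ S.erase P₀
    · obtain ⟨hRP, hRS⟩ := Finset.mem_erase.mp hR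
      have hRfix := hS R hRS
      rw [if_pos hR, Finsupp.single_eq_of_ne hRP]
      have hxR : R.1 x ≤ 1 := by
        have := hxL R
        rwa [Finsupp.single_eq_of_ne hRP, exp_zero] at this
      have := val_sub_lt_one_of_fixes hK (deg_eq_one_of_isAlgClosed hK R) hRfix hxR
      rw [zm0_lt_one_iff] at this
      simpa using this
    · rw [if_neg hR, sub_zero]
      exact (Valuation.map_sub _ _ _).trans (max_le (hσx R) (hxL R))
  rw [L_eq_bot_of_deg_neg hK] at hy
  · exact sub_eq_zero.mp ((Submodule.mem_bot k).mp hy)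
  · rw [deg_sub, deg_single, deg_finset_sum, deg_eq_one_of_isAlgClosed hK P₀]
    have : ∑ Q ∈ S.erase P₀, Divisor.deg (Finsupp.single Q (1 : ℤ) : Divisor k K) =
        (S.erase P₀).card := by
      rw [Finset.sum_congr rfl (fun Q _ => by
        rw [deg_single, deg_eq_one_of_isAlgClosed hK Q]; norm_num : ∀ Q ∈ S.erase P₀,
        Divisor.deg (Finsupp.single Q (1 : ℤ) : Divisor k K) = 1)]
      simp
    rw [this, Finset.card_erase_of_mem hP₀]
    have h1 : (1 : ℕ) ≤ S.card := by omega
    push_cast [Nat.cast_sub h1]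
    have : ((genus k K + 3 : ℕ) : ℤ) ≤ (S.card : ℤ) := by exact_mod_cast hcard
    push_cast at this
    omega

end algClosed

/-- The automorphisms fixing a transcendental element form a finite set. -/
theorem finite_setOf_apply_eq (hK : IsFunctionField k K) {x : K} (hx : Transcendental k x) :
    {σ : K ≃ₐ[k] K | σ x = x}.Finite := by
  haveI := finiteDimensional_adjoin_of_transcendental hK hx
  have hfixall : ∀ σ : K ≃ₐ[k] K, σ x = x →
      ∀ r : IntermediateField.adjoin k ({x} : Set K), σ (r : K) = r := by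
    intro σ hσ r
    obtain ⟨p, q, hpq⟩ := (IntermediateField.mem_adjoin_simple_iff k (r : K)).mp r.2
    have h1 : ∀ p : Polynomial k, σ (Polynomial.aeval x p) = Polynomial.aeval x p := by
      intro p
      have := Polynomial.aeval_algHom_apply (σ : K →ₐ[k] K) x p
      rw [AlgEquiv.coe_algHom, hσ] at this
      exact this.symm
    rw [hpq, map_div₀, h1, h1]
  let f : {σ : K ≃ₐ[k] K | σ x = x} → (K ≃ₐ[IntermediateField.adjoin k ({x} : Set K)] K) :=
    fun σ => AlgEquiv.ofRingEquiv (f := (σ.1 : K ≃ₐ[k] K).toRingEquiv)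
      (fun r => hfixall σ.1 σ.2 r)
  have hf : Function.Injective f := by
    intro σ τ h
    apply Subtype.ext
    ext z
    have := congrArg (fun e : K ≃ₐ[IntermediateField.adjoin k ({x} : Set K)] K => e z) h
    exact this
  haveI : Finite {σ : K ≃ₐ[k] K | σ x = x} := Finite.of_injective f hf
  exact Set.toFinite _

end Groth.Agent.Lib.Helper18.WP

namespace Groth.Agent.Lib.Helper18.WP

open FunFld WithZero LocRes Groth.Agent.Lib.Helper18.FF Groth.Agent.Lib.Helper18.Hasse

universe u v

variable {k : Type u} {K : Type v} [Field k] [Field K] [Algebra k K]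

/-- A basis of `L(D)`, as a tuple of functions. -/
theorem exists_basis_L (hK : IsFunctionField k K) (D : Divisor k K) {n : ℕ}
    (hell : ell D = n + 1) :
    ∃ φ : Fin (n + 1) → K, LinearIndependent k φ ∧ Submodule.span k (Set.range φ) = L D := by
  haveI := finiteDimensional_L hK D
  let b := Module.finBasisOfFinrankEq k (L D) hell
  refine ⟨fun i => ((b i : L D) : K), ?_, ?_⟩
  · exact b.linearIndependent.map' (L D).subtype (Submodule.ker_subtype _)
  · have h1 : Set.range (fun i => ((b i : L D) : K)) = (L D).subtype '' Set.range b := by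
      rw [← Set.range_comp]
      rfl
    rw [h1, Submodule.span_image, b.span_eq, Submodule.map_subtype_top]

/-- Over an algebraically closed field of characteristic `0` or larger than `2g - 2`, a function
field of genus at least two has finitely many automorphisms. -/
theorem finite_aut [IsAlgClosed k] (hK : IsFunctionField k K) (hg : 1 < genus k K)
    (hchar : ringChar k = 0 ∨ 2 * genus k K - 2 < ringChar k) : Finite (K ≃ₐ[k] K) := by
  classical
  obtain ⟨s, H, hH⟩ := exists_hasse hK
  choose Φ hΦ using fun P : Place k K => exists_expansion hK hH P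
  obtain ⟨C, hC⟩ := exists_isCanonical hK
  obtain ⟨n, hn⟩ : ∃ n, genus k K = n + 1 := ⟨genus k K - 1, by omega⟩
  have hn0 : 0 < n := by omega
  have hell : ell C = n + 1 := by rw [← hn]; exact ell_canonical hK hC
  obtain ⟨φ, hφ, hspan⟩ := exists_basis_L hK C hell
  obtain ⟨W, hWdef⟩ : ∃ W : Divisor k K,
      W = wDiv (AlgHom.id k K) H Φ s φ (fun l : Fin n => (l : ℕ) + 1) := ⟨_, rfl⟩
  have hcard : 2 * (n + 1) + 2 ≤ W.support.card := by
    rw [hWdef]
    exact card_support_ge hK hC φ hφ hspan hchar hH Φ hΦ hn0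
  have hmem : ∀ P, P ∈ W.support ↔ ¬ ∀ j : ℕ, 1 ≤ j → j ≤ n →
      L (Finsupp.single P ((j : ℤ) + 1) : Divisor k K) = L (Finsupp.single P (j : ℤ)) := by
    intro P
    rw [Finsupp.mem_support_iff, Ne, hWdef, wDiv_eq_zero_iff hK hC φ hφ hspan hchar hH Φ hΦ P]
  have hinv : ∀ (σ : K ≃ₐ[k] K) (P : Place k K), P ∈ W.support → comapPlace σ P ∈ W.support := by
    intro σ P hP
    rw [hmem] at hP ⊢
    intro h
    apply hP
    intro j hj1 hjn
    exact (gap_comapPlace_iff σ P _ _).mp (h j hj1 hjn)
  obtain ⟨P₀, hP₀⟩ : W.support.Nonempty := Finset.card_pos.mp (by omega)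
  obtain ⟨x, hxL, hxP⟩ := exists_nonconst_mem_L hK P₀
  have hx0 : x ≠ 0 := by
    rintro rfl
    rw [map_zero] at hxP
    exact absurd hxP (by simp)
  have hxtr : Transcendental k x := transcendental_of_val_ne_one hK P₀ hx0 (ne_of_gt hxP)
  have hN : {σ : K ≃ₐ[k] K | ∀ P ∈ W.support, Fixes σ P}.Finite :=
    (finite_setOf_apply_eq hK hxtr).subset fun σ hσ =>
      apply_eq_of_fixes_finset hK σ W.support hσ (by omega) P₀ hP₀ hxL
  let f : (K ≃ₐ[k] K) → (W.support → W.support) :=
    fun σ P => ⟨comapPlace σ P.1, hinv σ P.1 P.2⟩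
  have hfib : ∀ g : W.support → W.support, (f ⁻¹' {g}).Finite := by
    intro g
    by_cases hne : (f ⁻¹' {g}).Nonempty
    · obtain ⟨σ₀, hσ₀⟩ := hne
      refine (hN.image (fun ρ => ρ * σ₀)).subset ?_
      intro σ hσ
      refine ⟨σ * σ₀⁻¹, ?_, by simp⟩
      intro P hP
      apply fixes_of_comapPlace_eq
      rw [comapPlace_mul]
      have h1 : comapPlace σ P = comapPlace σ₀ P := by
        have h2 : f σ = f σ₀ := hσ.trans hσ₀.symm
        have := congrFun h2 ⟨P, hP⟩
        exact congrArg Subtype.val this
      rw [h1]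
      exact comapPlace_symm_comapPlace σ₀ P
    · rw [Set.not_nonempty_iff_eq_empty] at hne
      rw [hne]
      exact Set.finite_empty
  have huniv : (Set.univ : Set (K ≃ₐ[k] K)).Finite := by
    refine Set.Finite.of_finite_fibers f (Set.toFinite _) fun g _ => ?_
    rw [Set.univ_inter]
    exact hfib g
  exact Set.finite_univ_iff.mp huniv

end Groth.Agent.Lib.Helper18.WP
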