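import Groth.Agent.Lib.Helper18.WP.Aut
import Groth.Agent.Lib.Helper24.FFExt.RatSubfield

/-! # The dichotomy for Weierstrass points: more than `2g + 2` points, or hyperelliptic -/

set_option autoImplicit false
set_option linter.style.haveILetI false

namespace Groth.Agent.Lib.Helper18.WP

open FunFld WithZero LocRes Groth.Agent.Lib.Helper18.FF Groth.Agent.Lib.Helper18.Hasse

universe u v

variable {k : Type u} {K : Type v} [Field k] [Field K] [Algebra k K]

theorem apply_eq_of_mem_adjoin (σ : K ≃ₐ[k] K) {x : K} (hσ : σ x = x) {z : K}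
    (hz : z ∈ IntermediateField.adjoin k ({x} : Set K)) : σ z = z := by
  obtain ⟨p, q, hpq⟩ := (IntermediateField.mem_adjoin_simple_iff k z).mp hz
  have h1 : ∀ p : Polynomial k, σ (Polynomial.aeval x p) = Polynomial.aeval x p := by
    intro p
    have := Polynomial.aeval_algHom_apply (σ : K →ₐ[k] K) x p
    rw [AlgEquiv.coe_algHom, hσ] at this
    exact this.symm
  rw [hpq, map_div₀, h1, h1]

/-- A function with a double pole at `P` and no other pole generates a subfield of index two. -/
theorem finrank_adjoin_of_double_pole (hK : IsFunctionField k K) [IsAlgClosed k] (P : Place k K)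
    {x : K} (hxL : x ∈ L (Finsupp.single P (2 : ℤ) : Divisor k K))
    (hxn : x ∉ L (Finsupp.single P (1 : ℤ) : Divisor k K)) :
    Module.finrank (IntermediateField.adjoin k ({x} : Set K)) K = 2 := by
  classical
  have hx0 : x ≠ 0 := by
    rintro rfl
    exact hxn (Submodule.zero_mem _)
  have hxn' : x ∉ L ((Finsupp.single P (2 : ℤ) : Divisor k K) - Finsupp.single P 1) := by
    rw [← Finsupp.single_sub]
    norm_num
    exact hxn
  have hv : P.1 x = exp (2 : ℤ) := by
    have := val_eq_exp_of_mem_of_not_mem hK hxL hxn'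
    rwa [Finsupp.single_eq_same] at this
  have htr : Transcendental k x :=
    transcendental_of_val_ne_one hK P hx0 (by
      rw [hv, ← exp_zero]
      intro h
      have := exp_injective h
      omega)
  have hpole : poleDiv (k := k) x = Finsupp.single P (2 : ℤ) := by
    ext Q
    rw [poleDiv_apply hK]
    by_cases hQ : Q = P
    · subst hQ
      rw [Finsupp.single_eq_same, ord_eq_of_val_eq_exp Q hv]
      norm_num
    · rw [Finsupp.single_eq_of_ne hQ]
      have := hxL Q
      rw [Finsupp.single_eq_of_ne hQ, exp_zero, val_le_one_iff_ord_nonneg Q hx0] at this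
      have h2 : (-Q.ord x).toNat = 0 := by omega
      rw [h2]
      rfl
  have := deg_poleDiv_eq hK htr
  rw [hpole, deg_single, deg_eq_one_of_isAlgClosed hK P] at this
  exact_mod_cast this.symm

/-- The place `P` is the only pole of a function in `L(mP)`; an automorphism fixing the function
and moving no pole fixes `P`. -/
theorem fixes_of_apply_eq (σ : K ≃ₐ[k] K) (P : Place k K) {m : ℤ} {x : K}
    (hxL : x ∈ L (Finsupp.single P m : Divisor k K)) (hxP : 1 < P.1 x) (hσ : σ x = x) :
    Fixes σ P := by
  apply fixes_of_comapPlace_eq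
  by_contra hne
  have h1 := hxL (comapPlace σ P)
  rw [Finsupp.single_eq_of_ne hne, exp_zero, comapPlace_apply, hσ] at h1
  exact absurd hxP (not_lt.mpr h1)

/-- The dichotomy for Weierstrass points. -/
theorem dichotomy [IsAlgClosed k] (hK : IsFunctionField k K) (hg : 1 < genus k K)
    (hchar : ringChar k = 0 ∨ 2 * genus k K - 2 < ringChar k)
    (C : Divisor k K) (hC : IsCanonical k K C)
    {n : ℕ} (φ : Fin (n + 1) → K) (hφ : LinearIndependent k φ)
    (hspan : Submodule.span k (Set.range φ) = L C)
    (s : K) (H : K →ₐ[k] PowerSeries K) (hH : IsHasseFamily s H)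
    (J : Fin n → ℕ) (hJ : IsOrders K (hcol (AlgHom.id k K) H φ) J)
    (Φ : Place k K → (K →ₐ[k] LaurentSeries k))
    (hΦ : ∀ P : Place k K, IsExpansionAt P.1 (Φ P)) :
    (2 * genus k K + 2 < Set.ncard {P : Place k K | wDiv (AlgHom.id k K) H Φ s φ J P ≠ 0} ∧
      ∀ σ : K ≃ₐ[k] K, (∀ P : Place k K, wDiv (AlgHom.id k K) H Φ s φ J P ≠ 0 →
        IsFixedPt (σ : K →ₐ[k] K) P) → σ = AlgEquiv.refl) ∨
    (Set.ncard {P : Place k K | wDiv (AlgHom.id k K) H Φ s φ J P ≠ 0} = 2 * genus k K + 2 ∧
      ∃ x : K, Module.finrank (IntermediateField.adjoin k ({x} : Set K)) K = 2 ∧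
        ∀ σ : K ≃ₐ[k] K, (∀ P : Place k K, wDiv (AlgHom.id k K) H Φ s φ J P ≠ 0 →
          IsFixedPt (σ : K →ₐ[k] K) P) ↔ σ x = x) := by
  classical
  have hJeq : J = fun l : Fin n => (l : ℕ) + 1 :=
    isOrders_unique _ hJ (isOrders_canonical hK hC φ hφ hspan hchar hH)
  subst hJeq
  have hgn := genus_eq hK hC φ hφ hspan
  have hn0 : 0 < n := by omega
  obtain ⟨W, hWdef⟩ : ∃ W : Divisor k K,
      W = wDiv (AlgHom.id k K) H Φ s φ (fun l : Fin n => (l : ℕ) + 1) := ⟨_, rfl⟩
  rw [← hWdef]
  have hset : {P : Place k K | W P ≠ 0} = (W.support : Set (Place k K)) := by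
    ext P
    rw [Set.mem_setOf_eq, Finset.mem_coe, Finsupp.mem_support_iff]
  rw [hset, Set.ncard_coe_finset]
  have hcard : 2 * (n + 1) + 2 ≤ W.support.card := by
    rw [hWdef]
    exact card_support_ge hK hC φ hφ hspan hchar hH Φ hΦ hn0
  have hfixeq : ∀ σ : K ≃ₐ[k] K, (∀ P : Place k K, W P ≠ 0 → IsFixedPt (σ : K →ₐ[k] K) P) ↔
      ∀ P ∈ W.support, Fixes σ P := by
    intro σ
    constructor
    · intro h P hP
      exact h P (Finsupp.mem_support_iff.mp hP)
    · intro h P hP
      exact h P (Finsupp.mem_support_iff.mpr hP)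
  rcases Nat.lt_or_ge (2 * genus k K + 2) W.support.card with hlt | hge
  · left
    refine ⟨hlt, fun σ hσ => ?_⟩
    have hσ' := (hfixeq σ).mp hσ
    have h1 : ((2 * genus k K + 2 : ℕ) : ℕ∞) < Set.encard {P : Place k K | Fixes σ P} := by
      have hsub : (W.support : Set (Place k K)) ⊆ {P : Place k K | Fixes σ P} := fun P hP =>
        hσ' P (Finset.mem_coe.mp hP)
      refine lt_of_lt_of_le ?_ (Set.encard_le_encard hsub)
      rw [Set.encard_coe_eq_coe_finsetCard]
      exact_mod_cast hlt
    have := aut_eq_one hK σ h1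
    rw [this]
    rfl
  · right
    have hceq : W.support.card = 2 * genus k K + 2 := by omega
    refine ⟨hceq, ?_⟩
    -- every Weierstrass point has maximal weight
    have hdeg : W.deg = (n : ℤ) * (n + 1) * (n + 2) := by
      rw [hWdef]
      exact deg_wDiv_canonical hK hC φ hφ hspan hH Φ hΦ
    have h1 : W.deg = ∑ P ∈ W.support, W P := by
      rw [deg_eq_sum_of_support_subset W W.support (Finset.Subset.refl _)]
      refine Finset.sum_congr rfl fun P _ => ?_
      rw [deg_eq_one_of_isAlgClosed hK P]
      simp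
    have hle : ∀ P ∈ W.support, 2 * W P ≤ (n : ℤ) * (n + 1) := fun P _ => by
      rw [hWdef]
      exact two_mul_wDiv_le hK hC φ hφ hspan hchar hH Φ hΦ P
    have hsumeq : ∑ P ∈ W.support, 2 * W P = ∑ _P ∈ W.support, (n : ℤ) * (n + 1) := by
      rw [← Finset.mul_sum, ← h1, hdeg, Finset.sum_const, nsmul_eq_mul, hceq, hgn]
      push_cast
      ring
    have hall := (Finset.sum_eq_sum_iff_of_le hle).mp hsumeq
    have hnongap : ∀ P ∈ W.support,
        L (Finsupp.single P (2 : ℤ) : Divisor k K) ≠ L (Finsupp.single P (1 : ℤ)) := by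
      intro P hP
      refine two_nongap_of_wDiv_eq hK hC φ hφ hspan hchar hH Φ hΦ hn0 P ?_
      rw [← hWdef]
      exact hall P hP
    have hexists : ∀ P ∈ W.support, ∃ x : K, x ∈ L (Finsupp.single P (2 : ℤ) : Divisor k K) ∧
        x ∉ L (Finsupp.single P (1 : ℤ) : Divisor k K) := by
      intro P hP
      by_contra hcon
      push Not at hcon
      apply hnongap P hP
      apply le_antisymm
      · exact fun x hx => hcon x hx
      · refine L_mono ?_
        intro Q
        rw [Finsupp.single_apply, Finsupp.single_apply]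
        split_ifs <;> omega
    obtain ⟨P₀, hP₀⟩ : W.support.Nonempty := Finset.card_pos.mp (by omega)
    obtain ⟨x, hxL, hxn⟩ := hexists P₀ hP₀
    have hx2 := finrank_adjoin_of_double_pole hK P₀ hxL hxn
    refine ⟨x, hx2, fun σ => ?_⟩
    rw [hfixeq σ]
    constructor
    · intro hσ
      refine apply_eq_of_fixes_finset hK σ W.support hσ (by omega) P₀ hP₀ ?_
      refine L_mono ?_ hxL
      intro Q
      rw [Finsupp.single_apply, Finsupp.single_apply]
      split_ifs
      · have : (2 : ℤ) ≤ (genus k K : ℤ) := by exact_mod_cast hg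
        omega
      · exact le_refl _
    · intro hσ Q hQ
      obtain ⟨xQ, hxQL, hxQn⟩ := hexists Q hQ
      have hxQ2 := finrank_adjoin_of_double_pole hK Q hxQL hxQn
      have heq := Groth.Agent.Lib.Helper24.FFExt.adjoin_eq_adjoin_of_finrank_two hK (by omega)
        hx2 hxQ2
      have hmem : xQ ∈ IntermediateField.adjoin k ({x} : Set K) := by
        rw [heq]
        exact IntermediateField.mem_adjoin_simple_self k xQ
      have hσQ : σ xQ = xQ := apply_eq_of_mem_adjoin σ hσ hmem
      have hxQP : 1 < Q.1 xQ := by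
        by_contra hle1
        rw [not_lt] at hle1
        apply hxQn
        intro R
        by_cases hR : R = Q
        · subst hR
          rw [Finsupp.single_eq_same]
          exact hle1.trans (by rw [← exp_zero, exp_le_exp]; norm_num)
        · have := hxQL R
          rwa [Finsupp.single_eq_of_ne hR] at this ⊢
      exact fixes_of_apply_eq σ Q hxQL hxQP hσQ

end Groth.Agent.Lib.Helper18.WP
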