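import Groth.Agent.Lib.Helper18.Hasse.Classical
import Groth.Agent.Lib.Helper18.Hasse.BinomDet
import Groth.Agent.Lib.Helper18.Hasse.StrongFixed
import Groth.Agent.Lib.Helper18.FF.Embedding

/-! # Weierstrass points: classical orders and the divisor of a base point free map -/

set_option autoImplicit false
set_option linter.style.haveILetI false

namespace Groth.Agent.Lib.Helper18.WP

open FunFld WithZero LocRes Groth.Agent.Lib.Helper18.FF Groth.Agent.Lib.Helper18.Hasse

universe u v

variable {k : Type u} {K : Type v} [Field k] [Field K] [Algebra k K]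

/-- Order sequences are unique. -/
theorem isOrders_unique {R M : Type*} [Semiring R] [AddCommMonoid M] [Module R M] (c : ℕ → M)
    {n : ℕ} {J₁ J₂ : Fin n → ℕ} (h₁ : IsOrders R c J₁) (h₂ : IsOrders R c J₂) : J₁ = J₂ := by
  refine (StrictMono.range_inj h₁.1 h₂.1).mp ?_
  ext j
  rw [h₁.2 j, h₂.2 j]

/-- The binomial matrix against the classical sequence is nonsingular in large characteristic. -/
theorem det_binomMat_classical_ne_zero {n N : ℕ} (J' : Fin n → ℕ) (hmono : StrictMono J')
    (hpos : ∀ l, 0 < J' l) (hle : ∀ l, J' l ≤ N) (hN : ∀ d : ℕ, 0 < d → d ≤ N → (d : k) ≠ 0) :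
    (binomMat k J' (fun l : Fin n => (l : ℕ) + 1)).det ≠ 0 := by
  have hdet := det_choose_ne_zero (F := k) (expo J') (expo_strictMono J' hmono hpos)
    (N := N) (by
      intro i
      induction i using Fin.cases with
      | zero => exact Nat.zero_le _
      | succ l => exact hle l) hN
  rw [Matrix.det_succ_row_zero, Fin.sum_univ_succ] at hdet
  have hz : ∀ s : Fin n, (Matrix.of fun i j : Fin (n + 1) =>
      (((expo J' i).choose j : ℕ) : k)) 0 s.succ = 0 := by
    intro s
    simp [expo]
  have h00 : (Matrix.of fun i j : Fin (n + 1) =>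
      (((expo J' i).choose j : ℕ) : k)) 0 0 = 1 := by
    simp [expo]
  simp only [hz, mul_zero, zero_mul, Finset.sum_const_zero, add_zero, Fin.val_zero,
    pow_zero, one_mul, h00, Fin.succAbove_zero] at hdet
  have hsub : (Matrix.of fun i j : Fin (n + 1) =>
      (((expo J' i).choose j : ℕ) : k)).submatrix Fin.succ Fin.succ =
      binomMat k J' (fun l : Fin n => (l : ℕ) + 1) := by
    ext l s
    simp [binomMat, expo]
  rw [hsub] at hdet
  exact hdet

/-- Positive integers up to the degree bound are nonzero in `k` under the characteristic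
hypothesis. -/
theorem natCast_ne_zero_of_char {N : ℕ} (hchar : ringChar k = 0 ∨ N < ringChar k) (d : ℕ)
    (hd : 0 < d) (hdN : d ≤ N) : (d : k) ≠ 0 := by
  intro h
  have hdvd : ringChar k ∣ d := (ringChar.spec k d).mp h
  rcases hchar with h0 | hlt
  · rw [h0] at hdvd
    have := Nat.eq_zero_of_zero_dvd hdvd
    omega
  · have h1 := Nat.le_of_dvd hd hdvd
    omega

variable [IsAlgClosed k]

/-- In characteristic `0` or larger than the degree, the orders of a projective map are classical. -/
theorem isOrders_classical (hK : IsFunctionField k K) {n : ℕ} (φ : Fin (n + 1) → K)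
    (hφ : LinearIndependent k φ) {N : ℕ} (hN : (mapDiv k φ).deg ≤ N)
    (hchar : ringChar k = 0 ∨ N < ringChar k)
    {s : K} {H : K →ₐ[k] PowerSeries K} (hH : IsHasseFamily s H) :
    IsOrders K (hcol (AlgHom.id k K) H φ) (fun l : Fin n => (l : ℕ) + 1) := by
  classical
  obtain ⟨J, hJ⟩ := exists_isOrders_hcol hK φ hφ (AlgHom.id k K) hH
  obtain ⟨P⟩ := exists_place hK
  have hP : IsFixedPt (AlgHom.id k K) P := fun z hz => hz
  have hI : StrictMono (fun l : Fin n => (l : ℕ) + 1) := by
    intro a b hab
    have : a.val < b.val := hab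
    simp only
    omega
  have hle := orders_le_of_local hK (AlgHom.id k K) P hP hH φ hφ _ hI
    (Or.inl fun l => Nat.succ_pos _) (by
      intro J' hJ'mono hJ'pos hJ'le
      refine det_binomMat_classical_ne_zero J' hJ'mono hJ'pos (N := N) (fun l => ?_)
        (natCast_ne_zero_of_char hchar)
      have := hJ'le l
      have h2 : (J' l : ℤ) ≤ N := this.trans hN
      exact_mod_cast h2) J hJ
  have hc01 : hcol (AlgHom.id k K) H φ 1 = hcol (AlgHom.id k K) H φ 0 := by
    funext i
    change hasseD H 0 (φ i) = φ i
    exact hasseD_zero hH _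
  have hJpos : ∀ l, 1 ≤ J l := by
    intro l
    by_contra h
    have h0 : J l = 0 := by omega
    have hjump := (hJ.2 (J l)).mp ⟨l, rfl⟩
    rw [h0] at hjump
    apply hjump
    rw [zero_add, hc01]
    exact Submodule.subset_span ⟨0, by simp, rfl⟩
  have hge := strictMono_fin_add_le J hJ.1 1 hJpos
  have hJeq : J = fun l : Fin n => (l : ℕ) + 1 := by
    funext l
    have := hle l
    have := hge l
    omega
  rw [← hJeq]
  exact hJ

/-- The divisor of the projective map given by a basis of a base point free `L(D)` is `D`. -/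
theorem mapDiv_eq_of_bpf (hK : IsFunctionField k K) {n : ℕ} (φ : Fin (n + 1) → K)
    (hφ0 : ∀ i, φ i ≠ 0) (D : Divisor k K) (hspan : Submodule.span k (Set.range φ) = L D)
    (hbpf : ∀ P : Place k K, ell (D - Finsupp.single P 1) < ell D) : mapDiv k φ = D := by
  have hφL : ∀ i, φ i ∈ L D := fun i => hspan ▸ Submodule.subset_span ⟨i, rfl⟩
  apply le_antisymm
  · intro P
    obtain ⟨i, hi⟩ := exists_mapDiv_eq hK φ P
    rw [hi]
    have := (val_le_exp_iff P (hφ0 i) (D P)).mp (hφL i P)
    omega
  · intro P
    obtain ⟨x, hx, hx0, hxv⟩ := exists_section_val hK P (hbpf P)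
    have hxm : x ∈ L (mapDiv k φ) := by
      rw [← hspan] at hx
      refine Submodule.span_le.mpr ?_ hx
      rintro _ ⟨i, rfl⟩
      exact mem_L_mapDiv hK φ i
    have := hxm P
    rw [hxv, exp_le_exp] at this
    exact this

end Groth.Agent.Lib.Helper18.WP
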