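import Groth.Agent.Lib.Helper18.WP.Setup
import Groth.Agent.Lib.Helper18.Hasse.WDivDeg
import Groth.Agent.Lib.Helper18.Hasse.StrongGenus
import Groth.Agent.S12609
import Groth.Agent.S12615
import Groth.Agent.S12607
import Groth.Agent.S11063
import Groth.Agent.S11044

/-! # Weierstrass points: the weight of a point through the canonical Weierstrass divisor -/

set_option autoImplicit false
set_option linter.style.haveILetI false

namespace Groth.Agent.Lib.Helper18.WP

open FunFld WithZero LocRes Groth.Agent.Lib.Helper18.FF Groth.Agent.Lib.Helper18.Hasse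

universe u v

variable {k : Type u} {K : Type v} [Field k] [Field K] [Algebra k K]

section comb

theorem le_of_card_filter {n : ℕ} (J' : Fin n → ℕ) (hmono : StrictMono J') (l : Fin n) (c : ℕ)
    (h : (l : ℕ) + 1 ≤ (Finset.univ.filter fun i => J' i ≤ c).card) : J' l ≤ c := by
  by_contra hlt
  rw [not_le] at hlt
  have hsub : (Finset.univ.filter fun i => J' i ≤ c) ⊆
      Finset.univ.filter (fun i : Fin n => (i : ℕ) < (l : ℕ)) := by
    intro i hi
    rw [Finset.mem_filter] at hi ⊢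
    refine ⟨Finset.mem_univ _, ?_⟩
    by_contra hge
    rw [not_lt] at hge
    have := hmono.monotone (show l ≤ i from hge)
    omega
  have h1 := Finset.card_le_card hsub
  rw [Fin.card_filter_val_lt] at h1
  have := l.2
  omega

/-- The number of "gaps" up to `c + 1` is at most one more than the number of orders up to `c`. -/
theorem ncard_gaps_le {n : ℕ} (J' : Fin n → ℕ) (G : ℕ → Prop)
    (hrange : ∀ j, 1 ≤ j → (G (j + 1) → j ∈ Set.range J')) (c : ℕ) :
    Set.ncard {m : ℕ | 1 ≤ m ∧ m ≤ c + 1 ∧ G m} ≤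
      1 + (Finset.univ.filter fun i => J' i ≤ c).card := by
  classical
  have hsub : {m : ℕ | 1 ≤ m ∧ m ≤ c + 1 ∧ G m} ⊆
      insert 1 ((fun i => J' i + 1) '' ((Finset.univ.filter fun i => J' i ≤ c : Finset (Fin n)) :
        Set (Fin n))) := by
    rintro m ⟨h1, h2, h3⟩
    rcases Nat.eq_or_lt_of_le h1 with h | h
    · left
      exact h.symm
    · right
      obtain ⟨j, rfl⟩ : ∃ j, m = j + 1 := ⟨m - 1, by omega⟩
      obtain ⟨i, hi⟩ := hrange j (by omega) h3
      refine ⟨i, ?_, by simp only [hi]⟩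
      rw [Finset.mem_coe, Finset.mem_filter]
      exact ⟨Finset.mem_univ _, by omega⟩
  have hfin : (insert 1 ((fun i => J' i + 1) '' ((Finset.univ.filter fun i => J' i ≤ c :
      Finset (Fin n)) : Set (Fin n)))).Finite :=
    (Set.Finite.image _ (Finset.finite_toSet _)).insert _
  calc _ ≤ _ := Set.ncard_le_ncard hsub hfin
    _ ≤ Set.ncard ((fun i => J' i + 1) '' ((Finset.univ.filter fun i => J' i ≤ c :
        Finset (Fin n)) : Set (Fin n))) + 1 := Set.ncard_insert_le _ _
    _ ≤ Set.ncard ((Finset.univ.filter fun i => J' i ≤ c : Finset (Fin n)) : Set (Fin n)) + 1 :=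
        Nat.add_le_add_right (Set.ncard_image_le (Finset.finite_toSet _)) 1
    _ = 1 + (Finset.univ.filter fun i => J' i ≤ c).card := by
        rw [Set.ncard_coe_finset, add_comm]

/-- A strictly increasing positive sequence whose range contains `1, …, c` starts with
`1, …, c`. -/
theorem eq_succ_of_mem_range {n : ℕ} (J' : Fin n → ℕ) (hmono : StrictMono J')
    (hpos : ∀ l, 0 < J' l) (c : ℕ) (hmem : ∀ m, 1 ≤ m → m ≤ c → m ∈ Set.range J') :
    ∀ (l : ℕ) (hl : l < n), l < c → J' ⟨l, hl⟩ = l + 1 := by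
  have hlow : ∀ l : Fin n, (l : ℕ) + 1 ≤ J' l := fun l => by
    have := strictMono_fin_add_le J' hmono 1 (fun l => hpos l) l
    omega
  intro l
  induction l using Nat.strong_induction_on with
  | _ l ih =>
    intro hl hlc
    obtain ⟨l', hl'⟩ := hmem (l + 1) (by omega) (by omega)
    have h1 := hlow l'
    have h2 : (l' : ℕ) ≤ l := by omega
    rcases Nat.lt_or_ge (l' : ℕ) l with h3 | h3
    · have h4 := ih l' h3 l'.2 (by omega)
      have h5 : (⟨(l' : ℕ), l'.2⟩ : Fin n) = l' := Fin.ext rfl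
      rw [h5] at h4
      omega
    · have h5 : (⟨l, hl⟩ : Fin n) = l' := Fin.ext (by simp; omega)
      rw [h5, hl']

theorem sum_succ_two (n : ℕ) : 2 * ∑ l : Fin n, ((l : ℕ) + 1) = n * (n + 1) := by
  rw [Finset.sum_add_distrib, mul_add, sum_fin_val_two]
  simp only [Finset.sum_const, Finset.card_univ, Fintype.card_fin, smul_eq_mul, mul_one]
  rcases n with _ | n
  · simp
  · simp only [Nat.add_sub_cancel]
    ring

end comb

section main

variable [IsAlgClosed k] (hK : IsFunctionField k K) {C : Divisor k K} (hC : IsCanonical k K C)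
  {n : ℕ} (φ : Fin (n + 1) → K) (hφ : LinearIndependent k φ)
  (hspan : Submodule.span k (Set.range φ) = L C)

include hK hC hφ hspan

theorem genus_eq : genus k K = n + 1 := by
  rw [← ell_canonical hK hC]
  unfold ell
  rw [← hspan, finrank_span_eq_card hφ]
  simp

theorem mapDiv_canonical : mapDiv k φ = C := by
  have hg := genus_eq hK hC φ hφ hspan
  exact mapDiv_eq_of_bpf hK φ (fun i => hφ.ne_zero i) C hspan fun P =>
    Groth.Agent.S11044.result k K hK (by omega) C (Or.inr hC) P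

theorem deg_mapDiv_canonical : (mapDiv k φ).deg = 2 * (n : ℤ) := by
  rw [mapDiv_canonical hK hC φ hφ hspan, deg_canonical hK hC, genus_eq hK hC φ hφ hspan]
  push_cast
  ring

variable (hchar : ringChar k = 0 ∨ 2 * genus k K - 2 < ringChar k)
  {s : K} {H : K →ₐ[k] PowerSeries K} (hH : IsHasseFamily s H)

include hchar hH

theorem isOrders_canonical :
    IsOrders K (hcol (AlgHom.id k K) H φ) (fun l : Fin n => (l : ℕ) + 1) := by
  have hg := genus_eq hK hC φ hφ hspan
  refine isOrders_classical hK φ hφ (N := 2 * genus k K - 2) ?_ hchar hH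
  rw [deg_mapDiv_canonical hK hC φ hφ hspan, hg]
  push_cast
  omega

variable (Φ : Place k K → (K →ₐ[k] LaurentSeries k))
  (hΦ : ∀ P : Place k K, IsExpansionAt P.1 (Φ P))

include hΦ

/-- The local description of the canonical Weierstrass divisor at a place. -/
theorem local_weight (P : Place k K) :
    ∃ J' : Fin n → ℕ, StrictMono J' ∧ (∀ l, 0 < J' l) ∧
      (∀ j, 1 ≤ j → (j ∈ Set.range J' ↔
        L (Finsupp.single P ((j : ℤ) + 1) : Divisor k K) = L (Finsupp.single P (j : ℤ)))) ∧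
      wDiv (AlgHom.id k K) H Φ s φ (fun l : Fin n => (l : ℕ) + 1) P =
        ∑ l, ((J' l : ℤ) - ((l : ℕ) + 1 : ℕ)) := by
  classical
  have hg := genus_eq hK hC φ hφ hspan
  have hJ := isOrders_canonical hK hC φ hφ hspan hchar hH
  obtain ⟨t, Ht, ht, hHt⟩ := exists_local_hasse hK hH P
  obtain ⟨y, hy, hli, heff, hnorm⟩ := exists_normalize P φ hφ
  have e := wDiv_eq_of_equiv hK φ hφ (AlgHom.id k K) hH hHt _ hJ 1 (by simp) y hy (y • φ)
    (fun i => by
      rw [Pi.smul_apply, smul_eq_mul]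
      congr 1
      rw [Finset.sum_eq_single i]
      · rw [Matrix.one_apply_eq, one_smul]
      · intro j _ hj
        rw [Matrix.one_apply_ne (Ne.symm hj), zero_smul]
      · intro h; exact absurd (Finset.mem_univ i) h) Φ hΦ
  have hJψ : IsOrders K (hcol (AlgHom.id k K) Ht (y • φ)) (fun l : Fin n => (l : ℕ) + 1) :=
    ((scale_main φ (AlgHom.id k K) Ht hHt.2 y hy).1 _).mpr
      (((change_main hK hH hHt φ (AlgHom.id k K)).1 _).mpr hJ)
  obtain ⟨J', hJ'⟩ := exists_isOrders_hcolAt hK P ht hHt (y • φ) hli heff hnorm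
  have hpos : ∀ l, 0 < J' l := fun l => orders_at_pos P hHt (y • φ) J' hJ' l
  have h607 := (Groth.Agent.S12607.result k K hK P (y • φ) hli heff hnorm t ht Ht hHt J' hJ').2
  have hle : ∀ l, J' l ≤ 2 * genus k K - 2 := by
    intro l
    obtain ⟨f, hf, hfv⟩ := (h607 (J' l)).mp (Or.inr ⟨l, rfl⟩)
    have hf0 : f ≠ 0 := by
      rintro rfl
      rw [map_zero] at hfv
      exact exp_ne_zero hfv.symm
    have h1 := ord_le_deg_mapDiv hK P (y • φ) heff hnorm hf hf0
    rw [deg_mapDiv_smul hK hy φ (fun i => hφ.ne_zero i), ord_eq_of_val_eq_exp P hfv, neg_neg,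
      deg_mapDiv_canonical hK hC φ hφ hspan] at h1
    rw [hg]
    have : (J' l : ℤ) ≤ 2 * (n : ℤ) := h1
    omega
  have hdet := det_binomMat_classical_ne_zero (k := k) J' hJ'.1 hpos hle
    (natCast_ne_zero_of_char hchar)
  have h615 := (Groth.Agent.S12615.result k K hK (AlgHom.id k K) P (fun z hz => hz) (y • φ) hli heff
    hnorm t ht Ht hHt _ hJψ J' hJ' Φ hΦ).2 (Or.inl rfl)
  refine ⟨J', hJ'.1, hpos, fun j hj => ?_, ?_⟩
  · rw [hJ'.2 j]
    exact Groth.Agent.S12609.result k K hK C hC φ hφ hspan P y hy heff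
      (fun i => by simpa [Pi.smul_apply, smul_eq_mul] using hnorm i) t ht Ht hHt j hj
  · rw [← e, h615.mpr hdet]

/-- The `l`-th canonical order at a place is at most `2l + 2`. -/
theorem order_le (P : Place k K) (J' : Fin n → ℕ) (hmono : StrictMono J')
    (hrange : ∀ j, 1 ≤ j → (j ∈ Set.range J' ↔
      L (Finsupp.single P ((j : ℤ) + 1) : Divisor k K) = L (Finsupp.single P (j : ℤ))))
    (l : Fin n) : J' l ≤ 2 * (l : ℕ) + 2 := by
  have hg := genus_eq hK hC φ hφ hspan
  have h63 := Groth.Agent.S11063.result k K hK P ((l : ℕ) + 2) (by omega) (by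
    rw [hg]
    have := l.2
    omega)
  have h2 : 2 * ((l : ℕ) + 2) - 1 = 2 * (l : ℕ) + 2 + 1 := by omega
  rw [h2] at h63
  have h3 := ncard_gaps_le J' (fun m : ℕ => L (Finsupp.single P (m : ℤ) : Divisor k K) =
    L (Finsupp.single P ((m : ℤ) - 1))) (fun j hj hG => by
      refine (hrange j hj).mpr ?_
      have e1 : ((j + 1 : ℕ) : ℤ) = (j : ℤ) + 1 := by push_cast; ring
      have e2 : ((j + 1 : ℕ) : ℤ) - 1 = (j : ℤ) := by push_cast; ring
      rw [e1] at hG
      rw [show ((j : ℤ) + 1 - 1) = (j : ℤ) by ring] at hG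
      exact hG) (2 * (l : ℕ) + 2)
  exact le_of_card_filter J' hmono l _ (by omega)

/-- The coefficient of the canonical Weierstrass divisor at a place is at most `g(g-1)/2`. -/
theorem two_mul_wDiv_le (P : Place k K) :
    2 * wDiv (AlgHom.id k K) H Φ s φ (fun l : Fin n => (l : ℕ) + 1) P ≤ (n : ℤ) * (n + 1) := by
  obtain ⟨J', hmono, hpos, hrange, hW⟩ := local_weight hK hC φ hφ hspan hchar hH Φ hΦ P
  rw [hW, Finset.mul_sum]
  have h1 : ∀ l : Fin n, 2 * ((J' l : ℤ) - ((l : ℕ) + 1 : ℕ)) ≤ 2 * (((l : ℕ) + 1 : ℕ) : ℤ) := by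
    intro l
    have := order_le hK hC φ hφ hspan hchar hH Φ hΦ P J' hmono hrange l
    push_cast
    omega
  calc ∑ l, 2 * ((J' l : ℤ) - ((l : ℕ) + 1 : ℕ)) ≤ ∑ l : Fin n, 2 * (((l : ℕ) + 1 : ℕ) : ℤ) :=
        Finset.sum_le_sum fun l _ => h1 l
    _ = (n : ℤ) * (n + 1) := by
        rw [← Finset.mul_sum, ← Nat.cast_sum]
        have := sum_succ_two n
        have h2 : ((2 * ∑ l : Fin n, ((l : ℕ) + 1) : ℕ) : ℤ) = ((n * (n + 1) : ℕ) : ℤ) := by
          rw [this]
        push_cast at h2 ⊢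
        exact h2

/-- Equality in the bound forces `2` to be a pole number at the place. -/
theorem two_nongap_of_wDiv_eq (hn : 0 < n) (P : Place k K)
    (h : 2 * wDiv (AlgHom.id k K) H Φ s φ (fun l : Fin n => (l : ℕ) + 1) P = (n : ℤ) * (n + 1)) :
    L (Finsupp.single P (2 : ℤ) : Divisor k K) ≠ L (Finsupp.single P (1 : ℤ)) := by
  obtain ⟨J', hmono, hpos, hrange, hW⟩ := local_weight hK hC φ hφ hspan hchar hH Φ hΦ P
  have hle := order_le hK hC φ hφ hspan hchar hH Φ hΦ P J' hmono hrange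
  -- all the inequalities are equalities
  have hsum : ∑ l : Fin n, (2 * (((l : ℕ) + 1 : ℕ) : ℤ) - 2 * ((J' l : ℤ) - ((l : ℕ) + 1 : ℕ))) = 0 := by
    rw [Finset.sum_sub_distrib, ← Finset.mul_sum, ← Finset.mul_sum, ← hW, h, ← Nat.cast_sum]
    have := sum_succ_two n
    have h2 : ((2 * ∑ l : Fin n, ((l : ℕ) + 1) : ℕ) : ℤ) = ((n * (n + 1) : ℕ) : ℤ) := by
      rw [this]
    push_cast at h2 ⊢
    linarith
  have hnn : ∀ l ∈ (Finset.univ : Finset (Fin n)),
      0 ≤ (2 * (((l : ℕ) + 1 : ℕ) : ℤ) - 2 * ((J' l : ℤ) - ((l : ℕ) + 1 : ℕ))) := by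
    intro l _
    have := hle l
    push_cast
    omega
  have h0 := (Finset.sum_eq_zero_iff_of_nonneg hnn).mp hsum ⟨0, hn⟩ (Finset.mem_univ _)
  have hJ0 : J' ⟨0, hn⟩ = 2 := by
    push_cast at h0
    have := hle ⟨0, hn⟩
    simp only at this h0
    omega
  intro hgap
  have h1 : (1 : ℕ) ∈ Set.range J' := (hrange 1 le_rfl).mpr (by
    have e : ((1 : ℕ) : ℤ) + 1 = 2 := by norm_num
    rw [e]
    exact_mod_cast hgap)
  obtain ⟨i, hi⟩ := h1
  have h2 := hmono.monotone (show (⟨0, hn⟩ : Fin n) ≤ i from Fin.mk_le_of_le_val (Nat.zero_le _))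
  omega

/-- The coefficient of the canonical Weierstrass divisor at `P` vanishes exactly when all of
`2, …, g` are gap numbers at `P`. -/
theorem wDiv_eq_zero_iff (P : Place k K) :
    wDiv (AlgHom.id k K) H Φ s φ (fun l : Fin n => (l : ℕ) + 1) P = 0 ↔
      ∀ j : ℕ, 1 ≤ j → j ≤ n →
        L (Finsupp.single P ((j : ℤ) + 1) : Divisor k K) = L (Finsupp.single P (j : ℤ)) := by
  obtain ⟨J', hmono, hpos, hrange, hW⟩ := local_weight hK hC φ hφ hspan hchar hH Φ hΦ P
  have hlow : ∀ l : Fin n, (l : ℕ) + 1 ≤ J' l := fun l => by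
    have := strictMono_fin_add_le J' hmono 1 (fun l => hpos l) l
    omega
  have hnn : ∀ l ∈ (Finset.univ : Finset (Fin n)), 0 ≤ ((J' l : ℤ) - ((l : ℕ) + 1 : ℕ)) := by
    intro l _
    have := hlow l
    push_cast
    omega
  rw [hW, Finset.sum_eq_zero_iff_of_nonneg hnn]
  constructor
  · intro h j hj1 hjn
    refine (hrange j hj1).mp ⟨⟨j - 1, by omega⟩, ?_⟩
    have := h ⟨j - 1, by omega⟩ (Finset.mem_univ _)
    push_cast at this
    omega
  · intro h l _
    have := eq_succ_of_mem_range J' hmono hpos n (fun m hm1 hmn => (hrange m hm1).mpr (h m hm1 hmn))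
      l l.2 l.2
    have h5 : (⟨(l : ℕ), l.2⟩ : Fin n) = l := Fin.ext rfl
    rw [h5] at this
    rw [this]
    push_cast
    ring

omit hchar in
/-- The degree of the canonical Weierstrass divisor is `(g - 1) g (g + 1)`. -/
theorem deg_wDiv_canonical :
    (wDiv (AlgHom.id k K) H Φ s φ (fun l : Fin n => (l : ℕ) + 1)).deg =
      (n : ℤ) * (n + 1) * (n + 2) := by
  have hg := genus_eq hK hC φ hφ hspan
  have h1 : Module.finrank (AlgHom.id k K).fieldRange K = 1 := by
    have h : (AlgHom.id k K).fieldRange = ⊤ := AlgHom.fieldRange_eq_top.mpr Function.surjective_id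
    rw [h]
    exact IntermediateField.finrank_top
  rw [deg_wDiv hK φ hφ (AlgHom.id k K) hH _ Φ hΦ, h1, deg_mapDiv_canonical hK hC φ hφ hspan, hg]
  have h2 : 2 * ∑ l : Fin n, (((l : ℕ) + 1 : ℕ) : ℤ) = (n : ℤ) * (n + 1) := by
    rw [← Nat.cast_sum]
    have := sum_succ_two n
    have h2 : ((2 * ∑ l : Fin n, ((l : ℕ) + 1) : ℕ) : ℤ) = ((n * (n + 1) : ℕ) : ℤ) := by
      rw [this]
    push_cast at h2 ⊢
    exact h2
  push_cast at h2 ⊢
  nlinarith

/-- There are at least `2g + 2` Weierstrass points. -/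
theorem card_support_ge (hn : 0 < n) :
    2 * (n + 1) + 2 ≤ (wDiv (AlgHom.id k K) H Φ s φ (fun l : Fin n => (l : ℕ) + 1)).support.card := by
  classical
  obtain ⟨W, hW⟩ : ∃ W : Divisor k K,
      W = wDiv (AlgHom.id k K) H Φ s φ (fun l : Fin n => (l : ℕ) + 1) := ⟨_, rfl⟩
  rw [← hW]
  have hdeg : W.deg = (n : ℤ) * (n + 1) * (n + 2) := by
    rw [hW]
    exact deg_wDiv_canonical hK hC φ hφ hspan hH Φ hΦ
  have h1 : W.deg = ∑ P ∈ W.support, W P := by
    rw [deg_eq_sum_of_support_subset W W.support (Finset.Subset.refl _)]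
    refine Finset.sum_congr rfl fun P _ => ?_
    rw [deg_eq_one_of_isAlgClosed hK P]
    simp
  have h2 : 2 * W.deg ≤ ∑ _P ∈ W.support, (n : ℤ) * (n + 1) := by
    rw [h1, Finset.mul_sum]
    refine Finset.sum_le_sum fun P _ => ?_
    rw [hW]
    exact two_mul_wDiv_le hK hC φ hφ hspan hchar hH Φ hΦ P
  rw [Finset.sum_const, nsmul_eq_mul, hdeg] at h2
  have hn' : (1 : ℤ) ≤ n := by exact_mod_cast hn
  have h3 : (0 : ℤ) < (n : ℤ) * (n + 1) := by positivity
  have h4 : 2 * ((n : ℤ) + 2) ≤ (W.support.card : ℤ) := by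
    by_contra hlt
    rw [not_le] at hlt
    have : (W.support.card : ℤ) * ((n : ℤ) * (n + 1)) < 2 * ((n : ℤ) + 2) * ((n : ℤ) * (n + 1)) :=
      mul_lt_mul_of_pos_right hlt h3
    nlinarith
  have h5 : ((2 * (n + 1) + 2 : ℕ) : ℤ) ≤ (W.support.card : ℤ) := by
    push_cast
    linarith
  exact_mod_cast h5

end main

end Groth.Agent.Lib.Helper18.WP
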